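import Groth.Agent.Lib.Flag27.BorelGeneral
import Groth.Agent.Lib.Flag27.BorelTheorem
import Groth.Agent.Lib.Chev24.TorusQuot
import Groth.Agent.Lib.TorusImage14.Basic
import Groth.Agent.Lib.MaxTorBC14.Geom

/-!
# Borel subgroups and central kernels
-/

set_option autoImplicit false
set_option linter.all false
set_option backward.isDefEq.respectTransparency false

universe u

open CategoryTheory CategoryTheory.Limits MonoidalCategory CartesianMonoidalCategory MonObj GrpObj AlgebraicGeometry

set_option maxHeartbeats 1600000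
set_option synthInstance.maxHeartbeats 200000

namespace GrothLib.BorelCentral14

open GrothLib.DiagGrp GrothLib.Flag27

section General

variable {S : Scheme.{u}} {G B : Over S} [GrpObj G] [GrpObj B]

/-- A Borel subgroup given by a monomorphism is closed and its own normalizer. -/
theorem closed_normalizer_borel_mono [Smooth G.hom] [QuasiCompact G.hom]
    (hconn : ∀ s : S, _root_.IsConnected (G.hom.base ⁻¹' {s})) {b : B ⟶ G} [IsMonHom b] [Mono b]
    (hBs : Smooth B.hom)
    (hgeo : ∀ s : S, Red.IsBorelOver (AlgebraicClosure (S.residueField s)) ((Over.pullback (Red.geomPt s)).map b)) :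
    IsClosedImmersion b.left ∧ Red.IsNormalizerOf b b := by
  haveI := hBs
  have hfib : ∀ s : S, Smooth (Red.bc (Red.geomPt s) G).hom ∧ QuasiCompact (Red.bc (Red.geomPt s) G).hom ∧
      ConnectedSpace (Red.bc (Red.geomPt s) G).left := fun s => by
    refine ⟨inferInstanceAs (Smooth (pullback.snd _ _)), inferInstanceAs (QuasiCompact (pullback.snd _ _)), ?_⟩
    let σ : Spec (CommRingCat.of (AlgebraicClosure (S.residueField s))) ⟶ Spec (CommRingCat.of (S.residueField s)) :=
      Spec.map (CommRingCat.ofHom (algebraMap (S.residueField s) (AlgebraicClosure (S.residueField s))))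
    let G₁ := Red.bc (S.fromSpecResidueField s) G
    haveI : Smooth G₁.hom := inferInstanceAs (Smooth (pullback.snd _ _))
    haveI : ConnectedSpace G₁.left := by
      haveI : ConnectedSpace (G.hom.base ⁻¹' {s}) := Subtype.connectedSpace (hconn s)
      exact (G.hom.fiberHomeo s).symm.surjective.connectedSpace (G.hom.fiberHomeo s).symm.continuous
    haveI := connectedSpace_bc (k := S.residueField s) σ G₁
    let e := (Over.pullbackComp σ (S.fromSpecResidueField s)).app G
    let h := (Over.forget _).mapIso e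
    haveI : ConnectedSpace ↥((Over.forget _).obj ((Over.pullback (S.fromSpecResidueField s) ⋙ Over.pullback σ).obj G)) :=
      ‹ConnectedSpace (Red.bc σ G₁).left›
    exact (Scheme.homeoOfIso h).symm.surjective.connectedSpace (Scheme.homeoOfIso h).symm.continuous
  haveI : GeometricallyConnected B.hom := DescentHom.geometricallyConnected_of_geomPt B.hom fun s => (hgeo s).2.2.2.1
  haveI : GeometricallyIrreducible B.hom := SecLocus.geometricallyIrreducible_of_smooth B.hom
  haveI : LocallyOfFiniteType G.hom := inferInstance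
  obtain ⟨N, _, j, hN, hjc, hjfp⟩ := GrothLib.SecLocus.exists_normalizer b
  haveI := hjc; haveI := hjfp
  obtain ⟨hjm, hjmono, hjiff⟩ := id hN
  haveI := hjm; haveI := hjmono
  obtain ⟨v, hv⟩ := (hjiff B b).2 fun X' x h =>
    ⟨⟨x * h * x⁻¹, by simp only [MonObj.mul_comp, GrpObj.inv_comp]⟩,
      ⟨x⁻¹ * h * x, by simp only [MonObj.mul_comp, GrpObj.inv_comp]⟩⟩
  haveI : LocallyOfFiniteType N.hom := by rw [← Over.w j]; infer_instance
  haveI : LocallyOfFinitePresentation (v.left ≫ N.hom) := by rw [Over.w v]; infer_instance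
  haveI : Flat (v.left ≫ N.hom) := by rw [Over.w v]; infer_instance
  have hiso : IsIso v.left := FibreFlat.isIso_of_fibrewise v.left N.hom fun s => isIso_fibre_of_geom' v s (by
    obtain ⟨hm', hc', -⟩ := id (hgeo s)
    haveI := hm'; haveI := hc'
    obtain ⟨hs₁, hq₁, hc₁⟩ := hfib s
    haveI := hs₁; haveI := hq₁; haveI := hc₁
    haveI : IsClosedImmersion ((Over.pullback (Red.geomPt s)).map j).left :=
      MorphismProperty.of_isPullback (P := @IsClosedImmersion) (isPullback_overMap j (Red.geomPt s)).flip hjc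
    obtain ⟨φ, hφ⟩ := exists_factor_normalizer_general (hgeo s) ((Over.pullback (Red.geomPt s)).map j)
      (isNormalizerOf_bc _ hN)
    haveI : Mono ((Over.pullback (Red.geomPt s)).map j) := Over.mono_of_mono_left _
    haveI : Mono ((Over.pullback (Red.geomPt s)).map b) := Over.mono_of_mono_left _
    refine ⟨φ, ?_, ?_⟩
    · rw [← cancel_mono ((Over.pullback (Red.geomPt s)).map b), Category.assoc, hφ, ← Functor.map_comp, hv,
        Category.id_comp]
    · rw [← cancel_mono ((Over.pullback (Red.geomPt s)).map j), Category.assoc, ← Functor.map_comp, hv, hφ,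
        Category.id_comp])
  haveI : IsIso ((Over.forget _).map v) := hiso
  haveI : IsIso v := isIso_of_reflects_iso v (Over.forget _)
  refine ⟨by rw [← hv, Over.comp_left]; infer_instance, inferInstance, inferInstance, fun X g => ⟨?_, fun hg => ?_⟩⟩
  · rintro ⟨z, rfl⟩ X' x h
    exact ⟨⟨(x ≫ z) * h * (x ≫ z)⁻¹, by simp only [MonObj.mul_comp, GrpObj.inv_comp, Category.assoc]⟩,
      ⟨(x ≫ z)⁻¹ * h * (x ≫ z), by simp only [MonObj.mul_comp, GrpObj.inv_comp, Category.assoc]⟩⟩
  · obtain ⟨z, hz⟩ := (hjiff X g).2 hg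
    exact ⟨z ≫ inv v, by rw [Category.assoc, ← hv, IsIso.inv_hom_id_assoc, hz]⟩

set_option synthInstance.maxHeartbeats 800000 in
/-- Cartesian squares over a base are cartesian on schemes. -/
theorem isPullback_left {X Y Z W : Over S} {a : W ⟶ X} {c : W ⟶ Y} {f : X ⟶ Z} {g : Y ⟶ Z}
    (sq : IsPullback a c f g) : IsPullback a.left c.left f.left g.left := sq.map (Over.forget S)

end General

variable {K : Type u} [Field K] [IsAlgClosed K]

/-- A central extension of a solvable group is solvable. -/
theorem solvable_preimage {S : Scheme.{u}} {G G' B B' : Over S} [GrpObj G] [GrpObj G'] [GrpObj B] [GrpObj B']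
    (v : G ⟶ G')
    (hker : ∀ (X : Over S) (z : X ⟶ G), z ≫ v = 1 → ∀ (g : X ⟶ G), z * g = g * z)
    (b : B ⟶ G) [IsMonHom b] [Mono b] (π : B ⟶ B') [IsMonHom π] (b' : B' ⟶ G') [IsMonHom b']
    (w : b ≫ v = π ≫ b') (h : Red.IsSolvableGrp B') : Red.IsSolvableGrp B := by
  obtain ⟨n, hn⟩ := h
  refine ⟨n + 1, fun X => ?_⟩
  rw [derivedSeries_succ, Subgroup.commutator_eq_bot_iff_le_centralizer]
  intro x hx
  rw [Subgroup.mem_centralizer_iff]
  intro y hy
  have h1 : (x ≫ b) ≫ v = 1 := by
    have h2 : x ≫ π ∈ derivedSeries (X ⟶ B') n :=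
      map_derivedSeries_le_derivedSeries
        (MonoidHom.mk' (fun a : X ⟶ B => a ≫ π) fun c d => MonObj.mul_comp c d π) n ⟨x, hx, rfl⟩
    rw [hn X, Subgroup.mem_bot] at h2
    rw [Category.assoc, w, reassoc_of% h2, MonObj.one_comp]
  rw [← cancel_mono b, MonObj.mul_comp, MonObj.mul_comp]
  exact (hker X (x ≫ b) h1 (y ≫ b)).symm

/-- A surjective image of a solvable group is solvable. -/
theorem solvable_image {B B' : Over (Spec (CommRingCat.of K))} [GrpObj B] [GrpObj B'] [LocallyOfFiniteType B.hom]
    [Smooth B'.hom] (π : B ⟶ B') [IsMonHom π] (hπ : Surjective π.left) (h : Red.IsSolvableGrp B) :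
    Red.IsSolvableGrp B' := by
  haveI : IsSeparated B'.hom := GrothLib.GrpSchField.isSeparated B'
  haveI : Group.IsSolvable (𝟙_ (Over (Spec (CommRingCat.of K))) ⟶ B) := isSolvable_points h
  refine isSolvableGrp_of_points (solvable_of_surjective
    (f := MonoidHom.mk' (fun v : 𝟙_ (Over (Spec (CommRingCat.of K))) ⟶ B => v ≫ π) fun c d => MonObj.mul_comp c d π)
    fun w => ?_)
  obtain ⟨z, -, hz⟩ := exists_cl_lift π (E := Set.univ) isClosed_univ.isLocallyClosed (w := w)
    (by rw [Set.image_univ, Set.range_eq_univ.2 hπ.surj]; exact Set.mem_univ _)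
  exact ⟨z, hz⟩

variable {G G' B B' : Over (Spec (CommRingCat.of K))} [GrpObj G] [GrpObj G'] [GrpObj B] [GrpObj B']
  [Smooth G.hom] [QuasiCompact G.hom] [Smooth G'.hom] [QuasiCompact G'.hom]

/-- The inverse image of a Borel subgroup. -/
theorem isBorel_preimage (v : G ⟶ G') [IsMonHom v]
    (hker : ∀ (X : Over (Spec (CommRingCat.of K))) (z : X ⟶ G), z ≫ v = 1 → ∀ (g : X ⟶ G), z * g = g * z)
    (b : B ⟶ G) [IsMonHom b] (π : B ⟶ B') [IsMonHom π] [Flat π.left] [Surjective π.left] (b' : B' ⟶ G')
    (sq : IsPullback b π v b') (hB' : Red.IsBorelOver K b') [Smooth B.hom] [ConnectedSpace B.left] :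
    Red.IsBorelOver K b := by
  obtain ⟨hm', hc', hs', hconn', hsolv', hmax'⟩ := id hB'
  haveI := hm'; haveI := hc'; haveI := hs'
  haveI : IsSeparated G'.hom := GrothLib.GrpSchField.isSeparated G'
  have hbc : IsClosedImmersion b.left :=
    MorphismProperty.of_isPullback (P := @IsClosedImmersion) (isPullback_left sq).flip hc'
  haveI := hbc
  haveI : Mono b.left := inferInstance
  haveI : Mono b := Over.mono_of_mono_left b
  haveI : QuasiCompact B'.hom := by rw [← Over.w b']; infer_instance
  haveI : LocallyOfFinitePresentation π.left := GrothLib.AlbTors16.lfp_of_surj π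
  refine ⟨inferInstance, hbc, inferInstance, inferInstance, solvable_preimage v hker b π b' sq.w hsolv',
    fun B₁ _ i₁ _ f₁ hc₁ hs₁ hconn₁ hsolv₁ hf₁ => ?_⟩
  haveI := hc₁; haveI := hs₁; haveI := hconn₁
  haveI : Mono i₁ := Over.mono_of_mono_left i₁
  haveI : QuasiCompact B₁.hom := by rw [← Over.w i₁]; infer_instance
  haveI : QuasiCompact (i₁ ≫ v).left := by
    haveI : QuasiCompact ((i₁ ≫ v).left ≫ G'.hom) := by rw [Over.w]; infer_instance
    exact QuasiCompact.of_comp _ G'.hom
  obtain ⟨I, _, p, iI, hp, hiI, hpi, hps, hpf, hpl, himono, hIl, -⟩ := GrothLib.Neutral.exists_factor_field (i₁ ≫ v)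
  haveI := hp; haveI := hiI; haveI := hps; haveI := hpf; haveI := hpl; haveI := himono; haveI := hIl
  haveI := (GrothLib.Neutral.isClosedImmersion_factor (i₁ ≫ v) hpi).1
  haveI : Smooth I.hom := GrothLib.FppfSource.fppfSourceDescends_smooth p.left I.hom hpf hpl hps
    (by rw [Over.w p]; infer_instance)
  haveI : ConnectedSpace I.left := p.left.surjective.connectedSpace p.left.continuous
  have hIsolv := solvable_image p hps hsolv₁
  obtain ⟨f, hf, hf'⟩ := GrothLib.TorusImage14.exists_descend π (f₁ ≫ p) b' iI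
    (by rw [Category.assoc, hpi, reassoc_of% hf₁, sq.w])
  haveI : IsMonHom (f ≫ iI) := by rw [hf']; infer_instance
  haveI : IsMonHom f := GrothLib.CentMT14.isMonHom_of_comp f iI
  haveI : IsIso f := hmax' I iI f inferInstance inferInstance inferInstance hIsolv hf'
  have e : inv f ≫ b' = iI := (IsIso.inv_comp_eq _).mpr hf'.symm
  refine ⟨sq.lift i₁ (p ≫ inv f) (by rw [Category.assoc, e, hpi]), ?_, ?_⟩
  · rw [← cancel_mono b, Category.assoc, sq.lift_fst, hf₁, Category.id_comp]
  · rw [← cancel_mono i₁, Category.assoc, hf₁, sq.lift_fst, Category.id_comp]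

/-- The image of a Borel subgroup containing the kernel. -/
theorem isBorel_image (v : G ⟶ G') [IsMonHom v] [Flat v.left] [Surjective v.left]
    (hker : ∀ (X : Over (Spec (CommRingCat.of K))) (z : X ⟶ G), z ≫ v = 1 → ∀ (g : X ⟶ G), z * g = g * z)
    (b : B ⟶ G) (π : B ⟶ B') [IsMonHom π] [Flat π.left] [Surjective π.left] (b' : B' ⟶ G') [IsMonHom b'] [Mono b']
    [LocallyOfFiniteType B'.hom]
    (sq : IsPullback b π v b') (hB : Red.IsBorelOver K b) :
    Red.IsBorelOver K b' := by
  obtain ⟨hm, hc, hs, hconn, hsolv, hmax⟩ := id hB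
  haveI := hm; haveI := hc; haveI := hs; haveI := hconn
  haveI : Mono b := GrothLib.MaxTorBC14.mono_of_closed b hc
  haveI : IsSeparated G.hom := GrothLib.GrpSchField.isSeparated G
  haveI : IsSeparated G'.hom := GrothLib.GrpSchField.isSeparated G'
  haveI : QuasiCompact B.hom := by rw [← Over.w b]; infer_instance
  haveI : QuasiCompact B'.hom := by
    haveI : QuasiCompact (π.left ≫ B'.hom) := by rw [Over.w π]; infer_instance
    exact GrothLib.Thickening.quasiCompact_of_comp_surjective π.left B'.hom
  haveI : QuasiCompact b'.left := by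
    haveI : QuasiCompact (b'.left ≫ G'.hom) := by rw [Over.w b']; infer_instance
    exact QuasiCompact.of_comp _ G'.hom
  haveI := GrothLib.Neutral.isClosedImmersion_of_quasiCompact b'
  haveI : LocallyOfFinitePresentation π.left := GrothLib.AlbTors16.lfp_of_surj π
  haveI : Smooth B'.hom := GrothLib.FppfSource.fppfSourceDescends_smooth π.left B'.hom ‹_› ‹_› ‹_›
    (by rw [Over.w π]; infer_instance)
  haveI : ConnectedSpace B'.left := π.left.surjective.connectedSpace π.left.continuous
  refine ⟨inferInstance, inferInstance, inferInstance, inferInstance, solvable_image π ‹_› hsolv,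
    fun B₁ _ i₁ _ f₁ hc₁ hs₁ hconn₁ hsolv₁ hf₁ => ?_⟩
  haveI := hc₁; haveI := hs₁; haveI := hconn₁
  haveI : Mono i₁ := Over.mono_of_mono_left i₁
  haveI : QuasiCompact B₁.hom := by rw [← Over.w i₁]; infer_instance
  haveI : IsMonHom (f₁ ≫ i₁) := by rw [hf₁]; infer_instance
  haveI : IsMonHom f₁ := GrothLib.CentMT14.isMonHom_of_comp f₁ i₁
  haveI : IsClosedImmersion (f₁.left ≫ i₁.left) := by rw [← Over.comp_left, hf₁]; infer_instance
  haveI : IsClosedImmersion f₁.left := IsClosedImmersion.of_comp_isClosedImmersion f₁.left i₁.left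
  let P := pullback i₁ v
  let m : P ⟶ G := pullback.snd i₁ v
  obtain ⟨gP, hmm⟩ := EssFree.exists_grpObj_of_mono m
    (fun T => ⟨pullback.lift 1 1 (by rw [MonObj.one_comp, MonObj.one_comp]), pullback.lift_snd _ _ _⟩)
    (fun T a c => ⟨pullback.lift ((a ≫ pullback.fst i₁ v) * (c ≫ pullback.fst i₁ v)) ((a ≫ m) * (c ≫ m)) (by
      simp only [m, MonObj.mul_comp, Category.assoc, pullback.condition]), pullback.lift_snd _ _ _⟩)
    (fun T a => ⟨pullback.lift (a ≫ pullback.fst i₁ v)⁻¹ (a ≫ m)⁻¹ (by
      simp only [m, GrpObj.inv_comp, Category.assoc, pullback.condition]), pullback.lift_snd _ _ _⟩)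
  letI : GrpObj P := gP
  haveI : IsMonHom m := hmm
  haveI : IsMonHom (pullback.fst i₁ v) := by
    haveI : IsMonHom (pullback.fst i₁ v ≫ i₁) := by rw [pullback.condition]; infer_instance
    exact GrothLib.CentMT14.isMonHom_of_comp _ i₁
  haveI : IsClosedImmersion m.left := MorphismProperty.of_isPullback (P := @IsClosedImmersion)
    (isPullback_left (IsPullback.of_hasPullback i₁ v)) hc₁
  haveI : LocallyOfFiniteType P.hom := by rw [← Over.w m]; infer_instance
  haveI : QuasiCompact P.hom := by rw [← Over.w m]; infer_instance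
  have sqP := (isPullback_left (IsPullback.of_hasPullback i₁ v)).flip
  haveI : Flat (pullback.fst i₁ v).left := MorphismProperty.of_isPullback (P := @Flat) sqP ‹Flat v.left›
  obtain ⟨R, _, jR, hjR, hjRc, hRs, hRc, hRo, hRl⟩ := GrothLib.Chev24.exists_openRedNeutral P
  haveI := hjR; haveI := hjRc; haveI := hRs; haveI := hRc
  haveI : Mono jR := Over.mono_of_mono_left jR
  haveI : Mono (jR ≫ m) := mono_comp _ _
  let l : B ⟶ P := pullback.lift (π ≫ f₁) b (by rw [Category.assoc, hf₁, sq.w])
  haveI : IsMonHom (l ≫ m) := by rw [show l ≫ m = b from pullback.lift_snd _ _ _]; infer_instance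
  haveI : IsMonHom l := GrothLib.CentMT14.isMonHom_of_comp l m
  obtain ⟨l', hl'⟩ := hRl B l (GrothLib.Rigidity.isReduced_of_smooth B.hom) inferInstance
    (GrothLib.AffPart16.eta_mem_range l)
  have hlb : l' ≫ jR ≫ m = b := by rw [reassoc_of% hl']; exact pullback.lift_snd _ _ _
  haveI : IsClosedImmersion (jR ≫ m).left := by rw [Over.comp_left]; infer_instance
  haveI : IsMonHom (l' ≫ jR ≫ m) := by rw [hlb]; infer_instance
  haveI : IsMonHom l' := GrothLib.CentMT14.isMonHom_of_comp l' (jR ≫ m)
  haveI : IsIso l' := hmax R (jR ≫ m) l' inferInstance inferInstance inferInstance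
    (solvable_preimage v hker (jR ≫ m) (jR ≫ pullback.fst i₁ v) i₁
      (by simp only [m, Category.assoc, pullback.condition]) hsolv₁) hlb
  haveI : IsIso l'.left := inferInstanceAs (IsIso ((Over.forget _).map l'))
  haveI : LocallyOfFinitePresentation (pullback.fst i₁ v).left := by
    haveI : IsLocallyNoetherian B₁.left := LocallyOfFiniteType.isLocallyNoetherian B₁.hom
    haveI : LocallyOfFiniteType ((pullback.fst i₁ v).left ≫ B₁.hom) := by rw [Over.w]; infer_instance
    haveI := locallyOfFiniteType_of_comp (pullback.fst i₁ v).left B₁.hom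
    infer_instance
  have hopen : IsOpen (Set.range f₁.left.base) := by
    have e1 : Set.range f₁.left.base = Set.range (π ≫ f₁).left.base := by
      rw [Over.comp_left, Scheme.Hom.comp_base, TopCat.coe_comp, Set.range_comp, π.left.surjective.range_eq,
        Set.image_univ]
    have e2 : π ≫ f₁ = l' ≫ jR ≫ pullback.fst i₁ v := by rw [reassoc_of% hl']; exact (pullback.lift_fst _ _ _).symm
    rw [e1, e2, Over.comp_left, Over.comp_left, Scheme.Hom.comp_base, TopCat.coe_comp, Set.range_comp,
      l'.left.surjective.range_eq, Set.image_univ, Scheme.Hom.comp_base, TopCat.coe_comp, Set.range_comp]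
    exact (pullback.fst i₁ v).left.isOpenMap _ hRo
  haveI : Surjective f₁.left := ⟨Set.range_eq_univ.mp
    (IsClopen.eq_univ ⟨f₁.left.isClosedEmbedding.isClosed_range, hopen⟩
      ⟨_, GrothLib.AffPart16.eta_mem_range f₁⟩)⟩
  haveI : IsReduced B₁.left := GrothLib.Rigidity.isReduced_of_smooth B₁.hom
  haveI : IsIso f₁.left := AlgebraicGeometry.isIso_of_isClosedImmersion_of_surjective f₁.left
  haveI : IsIso ((Over.forget _).map f₁) := ‹IsIso f₁.left›
  exact isIso_of_reflects_iso f₁ (Over.forget _)

end GrothLib.BorelCentral14
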